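import Groth.Agent.Lib.AntMax16.Crit
import Groth.Agent.Lib.UnipFix19.UnipBC
import Groth.Agent.Lib.UnipFix19.Reductive
import Groth.Agent.Lib.Flag27.UnipSplit
import Groth.Agent.Lib.Flag27.CentBC

/-!
# The criterion of anti-affineness over fields of characteristic zero
-/

set_option autoImplicit false
set_option linter.all false
set_option backward.isDefEq.respectTransparency false
set_option synthInstance.maxHeartbeats 200000
set_option maxHeartbeats 1000000

universe u

open CategoryTheory CategoryTheory.Limits MonoidalCategory CartesianMonoidalCategory MonObj GrpObj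
open AlgebraicGeometry

noncomputable section

namespace GrothLib.AntCrit5

open GrothLib.UnipFix19

variable {k : Type u} [Field k] [PerfectField k]

/-- Over a perfect field a commutative group without subtori has no subtori geometrically. -/
theorem hasNoSubtorus_bc {K : Type u} [Field K] [IsAlgClosed K]
    (f : Spec (CommRingCat.of K) ⟶ Spec (CommRingCat.of k)) [IsIntegralHom f]
    (U : Over (Spec (CommRingCat.of k))) [GrpObj U] [IsCommMonObj U] [Smooth U.hom] [ConnectedSpace U.left]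
    [IsAffine U.left] (hU : Red.HasNoSubtorus k U) : Red.HasNoSubtorus K (Red.bc f U) := by
  haveI : IsCommMonObj (Red.bc f U) := inferInstanceAs (IsCommMonObj ((Over.pullback f).obj U))
  haveI := GrothLib.Flag27.smooth_bc f U
  haveI := GrothLib.Flag27.connectedSpace_bc f U
  haveI : IsAffine (Red.bc f U).left := GrothLib.Flag27.isAffine_bc f U
  obtain ⟨D, _, R, _, p, s, u, r, hp, hs, hu, hsp, hDt, hDa, hDs, hDc, huc, hup, hur, hru, hRu, hRs, hRc⟩ :=
    GrothLib.Flag27.hasSplit_of_solvable (B := Red.bc f U) (isSolvable_of_comm fun a b => mul_comm a b)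
  haveI := hp; haveI := hs; haveI := hu; haveI := hDa; haveI := hDs; haveI := hDc
  haveI : IsSplitMono s := IsSplitMono.mk' ⟨p, hsp⟩
  haveI : IsClosedImmersion s.left := (GrothLib.Flag27.torus_facts hDt s).1
  have hfac : ∀ (T : Over (Spec (CommRingCat.of K))) [GrpObj T] (t : T ⟶ Red.bc f U) [IsMonHom t],
      Red.IsTorus T → (t ≫ p) ≫ s = t := by
    intro T _ t _ hT
    haveI : Mono u := Over.mono_of_mono_left u
    haveI : IsMonHom r := by
      haveI : IsMonHom (r ≫ u) := by
        rw [hru]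
        exact DiagGrp.isMonHom_of_points _ fun Y a b => by
          simp [MonObj.comp_mul, GrpObj.comp_inv, MonObj.mul_comp, _root_.mul_inv, _root_.mul_mul_mul_comm,
            mul_comm (b ≫ p ≫ s)⁻¹ (a ≫ p ≫ s)⁻¹]
      exact GrothLib.Flag27.isMonHom_of_comp r u
    have h1 := hRu.torus_hom_eq_one hT (t ≫ r)
    have h2 : t ≫ r ≫ u = 1 := by rw [← Category.assoc, h1, MonObj.one_comp]
    rw [hru, MonObj.comp_mul, GrpObj.comp_inv, Category.comp_id, mul_inv_eq_one] at h2
    rw [Category.assoc]; exact h2.symm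
  have hst : TwistStable f s := by
    intro σ hσ hσi
    haveI := hσi
    haveI : IsMonHom (GrothLib.GrpLim14.E hσ U).hom := (GrothLib.GrpLim14.isMonHom_E hσ U).1
    exact ⟨((Over.pullback σ).map s ≫ (GrothLib.GrpLim14.E hσ U).hom) ≫ p,
      hfac (Red.bc σ D) _ (GrothLib.Flag27.isTorus_bc_field σ hDt)⟩
  obtain ⟨N, _, n, hn, hnc, -, -, -, e, he⟩ := exists_descend f s hst fun T g x =>
    ⟨x, by rw [mul_comm g, mul_inv_cancel_right]⟩
  haveI := hn; haveI := hnc
  haveI : Mono n := Over.mono_of_mono_left n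
  haveI : Mono s := inferInstance
  haveI : IsMonHom (e.hom ≫ s) := by rw [he]; infer_instance
  haveI : IsMonHom e.hom := GrothLib.Flag27.isMonHom_of_comp e.hom s
  have hN : Red.IsTorus N := isTorus_of_bc_field f
    (GrothLib.Flag27.isTorus_of_grpIso (Grp.mkIso' e).symm hDt)
  have h1 : 𝟙 N = 1 := AntMax16.id_eq_one_of_isTrivialGrp (hU N n hN)
  have hs1 : s = 1 := by
    have h2 : 𝟙 ((Over.pullback f).obj N) = 1 := by
      rw [← (Over.pullback f).map_id, h1, Functor.map_one]
    rw [← cancel_epi e.hom, MonObj.comp_one, ← Category.id_comp e.hom, Category.assoc, h2, MonObj.one_comp]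
  intro T _ j _ _ hT
  refine AntMax16.isTrivialGrp_of_id ?_
  rw [← cancel_mono j, Category.id_comp, MonObj.one_comp, ← hfac T j hT, hs1, MonObj.comp_one]

variable {G N T U Gs Gu : Over (Spec (CommRingCat.of k))} [GrpObj G] [GrpObj N] [GrpObj T] [GrpObj U]
  [GrpObj Gs] [GrpObj Gu] [Smooth G.hom] [QuasiCompact G.hom] [ConnectedSpace G.left] [IsCommMonObj G]

theorem antiAffine_iff (i : N ⟶ G) [IsMonHom i] (t : T ⟶ N) (u : U ⟶ N) [IsMonHom t] [IsMonHom u]
    (hT : Red.IsTorus T) [Smooth U.hom] [ConnectedSpace U.left] [IsAffine U.left] (hU : Red.HasNoSubtorus k U)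
    [LocallyOfFiniteType Gs.hom] [QuasiCompact Gs.hom] [LocallyOfFiniteType Gu.hom] [QuasiCompact Gu.hom]
    (qs : G ⟶ Gs) [IsMonHom qs] [Surjective qs.left] [Flat qs.left] (hs : AlgGrp.IsKernel (u ≫ i) qs)
    (qu : G ⟶ Gu) [IsMonHom qu] [Surjective qu.left] [Flat qu.left] (hu : AlgGrp.IsKernel (t ≫ i) qu) :
    AntiAffine.IsAntiAffine G ↔ AntiAffine.IsAntiAffine Gs ∧ AntiAffine.IsAntiAffine Gu := by
  refine ⟨fun h => ⟨AntMax16.antiAffine_quot h qs, AntMax16.antiAffine_quot h qu⟩, fun ⟨h₁, h₂⟩ => ?_⟩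
  haveI : Mono (u ≫ i) := ⟨fun {Z} a b hab => hs.hom_ext hab (toUnit_unique _ _)⟩
  haveI : IsCommMonObj U := GrothLib.AbAff14.isCommMonObj_of_mono (u ≫ i)
  obtain ⟨M, gM, iM, hiM, hciM, hM, -, hmax, L, gL, ρ, hρ, hLa, hLl, hρf, hρs, hρp, hρk⟩ := AntMax16.exists_ant G
  haveI := hiM; haveI := hciM; haveI := hρ; haveI := hρf; haveI := hρs; haveI := hρp; haveI := hLa; haveI := hLl
  obtain ⟨hlM, hqM⟩ := AntMax16.props_of_mono iM
  have hiρ : iM ≫ ρ = 1 := GrpSchField.comp_eq_one hρk
  have key : ∀ (V W : Over (Spec (CommRingCat.of k))) [GrpObj V] [GrpObj W] [LocallyOfFiniteType V.hom]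
      [QuasiCompact V.hom] (q : G ⟶ V) [IsMonHom q] [Surjective q.left] (w : W ⟶ G) [IsMonHom w],
      AntiAffine.IsAntiAffine V → AlgGrp.IsKernel w q → Surjective (w ≫ ρ).left := by
    intro V W _ _ _ _ q _ _ w _ hV hw
    haveI : IsClosedImmersion (𝟙 V : V ⟶ V).left := inferInstanceAs (IsClosedImmersion (𝟙 V.left))
    haveI : Surjective (iM ≫ q).left :=
      AntMax16.surjective_ant q iM (fun K' _ _ _ b _ _ hb => hmax K' b hb) (𝟙 V) hV (iM ≫ q)
        (Category.comp_id _) hM
    refine ⟨fun x => ?_⟩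
    obtain ⟨g, rfl⟩ := hρs.surj x
    obtain ⟨T', c, a, hc, hca⟩ := AntMax16.exists_cover (iM ≫ q) q
    obtain ⟨p, rfl⟩ := hc.surj g
    obtain ⟨z, hz⟩ := GrpSchField.exists_lift_of_comp_eq_one hw (c * (a ≫ iM)⁻¹) (by
      rw [MonObj.mul_comp, GrpObj.inv_comp, Category.assoc, hca, mul_inv_cancel])
    have e : z ≫ w ≫ ρ = c ≫ ρ := by
      rw [← Category.assoc, hz, MonObj.mul_comp, GrpObj.inv_comp, Category.assoc, hiρ, MonObj.comp_one, inv_one,
        _root_.mul_one]
    refine ⟨z.left p, ?_⟩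
    rw [← Scheme.Hom.comp_apply, ← Scheme.Hom.comp_apply, ← Over.comp_left, ← Over.comp_left, e]
  haveI : Surjective ((u ≫ i) ≫ ρ).left := key Gs U qs (u ≫ i) h₁ hs
  haveI : Surjective ((t ≫ i) ≫ ρ).left := key Gu T qu (t ≫ i) h₂ hu
  haveI : ConnectedSpace L.left := ρ.left.surjective.connectedSpace ρ.left.continuous
  haveI : IsReduced L.left := by
    haveI : IsReduced G.left := Rigidity.isReduced_of_smooth G.hom
    haveI : IsSeparated L.hom := GrpSchField.isSeparated L
    haveI : QuasiCompact (ρ.left ≫ L.hom) := by rw [Over.w ρ]; infer_instance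
    haveI : QuasiCompact ρ.left := QuasiCompact.of_comp ρ.left L.hom
    haveI := NoriFGS13.isSchemeTheoreticallyDominant_of_flat ρ.left
    exact IsSchemeTheoreticallyDominant.isReduced ρ.left
  haveI : Smooth L.hom := GrpSchField.smooth_of_perfectField_of_isReduced L
  let K := AlgebraicClosure k
  let f : Spec (CommRingCat.of K) ⟶ Spec (CommRingCat.of k) := Spec.map (CommRingCat.ofHom (algebraMap k K))
  haveI : IsIntegralHom f := (IsIntegralHom.SpecMap_iff).2 Algebra.IsIntegral.isIntegral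
  haveI : Surjective f := GrothLib.Flag27.surjective_to_field f
  haveI := GrothLib.Flag27.smooth_bc f U
  haveI := GrothLib.Flag27.connectedSpace_bc f U
  haveI : IsAffine (Red.bc f U).left := GrothLib.Flag27.isAffine_bc f U
  haveI := GrothLib.Flag27.smooth_bc f L
  haveI := GrothLib.Flag27.connectedSpace_bc f L
  haveI : IsAffine (Red.bc f L).left := GrothLib.Flag27.isAffine_bc f L
  let a : Red.bc f U ⟶ Red.bc f L := (Over.pullback f).map ((u ≫ i) ≫ ρ)
  let c : Red.bc f T ⟶ Red.bc f L := (Over.pullback f).map ((t ≫ i) ≫ ρ)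
  haveI : Surjective a.left := GrothLib.Flag27.property_map f _ ‹Surjective ((u ≫ i) ≫ ρ).left›
  haveI : Surjective c.left := GrothLib.Flag27.property_map f _ ‹Surjective ((t ≫ i) ≫ ρ).left›
  haveI : IsReduced (Red.bc f L).left := Rigidity.isReduced_of_smooth (Red.bc f L).hom
  have hLfix : Fix (Red.bc f L) := fix_of_surjective a (fix_of_hasNoSubtorus (hasNoSubtorus_bc f U hU))
  have hLu := (Flag27.isUnip_of_noSubtorus (hasNoSubtorus_of_fix hLfix)).1
  have h0 : 𝟙 (Red.bc f L) = 1 :=
    AntMax16.id_eq_one_of_surjective c (hLu.torus_hom_eq_one (Flag27.isTorus_bc_field f hT) c)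
  have h0' : 𝟙 L = 1 := (Over.pullback f).map_injective (by
    rw [(Over.pullback f).map_id, Functor.map_one]; exact h0)
  obtain ⟨y, hy⟩ := GrpSchField.exists_lift_of_comp_eq_one hρk (𝟙 G)
    (by rw [Category.id_comp, ← Category.comp_id ρ, h0', MonObj.comp_one])
  exact AntMax16.antiAffine_of_section iM y hy hM

end GrothLib.AntCrit5
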